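/-
Checked certificate data for the automorphisms of M22: searches, in pieces.
-/
import Cfsg.Agent.H50.MathieuData.M22NegPart

set_option autoImplicit false
set_option maxRecDepth 100000
set_option maxHeartbeats 0

namespace Cfsg.Agent.H50.M22Cert

open Cfsg Cfsg.Agent.Golay


theorem search_neg_0 :
    checkSearch F0 (tblPow ta 10) 11 relP relW (conjList (tblPow ta 10) 11 [imgB]) ((1, top) :: (4, [966396866899391717304359242506055712]) :: rest) starts = true := by
  decide +kernel

theorem search_neg_1 :
    checkSearch F0 (tblPow ta 10) 11 relP relW (conjList (tblPow ta 10) 11 [imgB]) ((1, top) :: (4, [960990084975801460178258370785528864]) :: rest) starts = true := by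
  decide +kernel

theorem search_neg_2 :
    checkSearch F0 (tblPow ta 10) 11 relP relW (conjList (tblPow ta 10) 11 [imgB]) ((1, top) :: (4, [984818244535754528103549039458486304]) :: rest) starts = true := by
  decide +kernel

theorem search_neg_3 :
    checkSearch F0 (tblPow ta 10) 11 relP relW (conjList (tblPow ta 10) 11 [imgB]) ((1, top) :: (4, [972668920140615629101734305239147552]) :: rest) starts = true := by
  decide +kernel

theorem search_neg_4 :
    checkSearch F0 (tblPow ta 10) 11 relP relW (conjList (tblPow ta 10) 11 [imgB]) ((1, top) :: (4, [967478164583756285581890743503045664]) :: rest) starts = true := by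
  decide +kernel

theorem search_neg_5 :
    checkSearch F0 (tblPow ta 10) 11 relP relW (conjList (tblPow ta 10) 11 [imgB]) ((1, top) :: (4, [970042548328852147353556335298258976]) :: rest) starts = true := by
  decide +kernel

theorem search_neg_6 :
    checkSearch F0 (tblPow ta 10) 11 relP relW (conjList (tblPow ta 10) 11 [imgB]) ((1, top) :: (4, [967524419877965869384084473722091552]) :: rest) starts = true := by
  decide +kernel

theorem search_neg_7 :
    checkSearch F0 (tblPow ta 10) 11 relP relW (conjList (tblPow ta 10) 11 [imgB]) ((1, top) :: (4, [971582447076739722578452364821972000]) :: rest) starts = true := by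
  decide +kernel

theorem search_neg_8 :
    checkSearch F0 (tblPow ta 10) 11 relP relW (conjList (tblPow ta 10) 11 [imgB]) ((1, top) :: (4, [977539146106781630748220116208572448]) :: rest) starts = true := by
  decide +kernel

theorem search_neg_9 :
    checkSearch F0 (tblPow ta 10) 11 relP relW (conjList (tblPow ta 10) 11 [imgB]) ((1, top) :: (4, [979620350940204452087432440781932576]) :: rest) starts = true := by
  decide +kernel

theorem search_neg :
    checkSearch F0 (tblPow ta 10) 11 relP relW (conjList (tblPow ta 10) 11 [imgB]) chain starts = true := by
  refine checkSearch_split (by simp [second]) fun u hu => ?_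
  simp only [second, List.mem_cons, List.not_mem_nil, or_false] at hu
  rcases hu with rfl | rfl | rfl | rfl | rfl | rfl | rfl | rfl | rfl | rfl | rfl | rfl | rfl | rfl | rfl | rfl | rfl | rfl | rfl | rfl | rfl
  exacts [search_neg_0, search_neg_1, search_neg_2, search_neg_3, search_neg_4, search_neg_5, search_neg_6, search_neg_7, search_neg_8, search_neg_9, search_neg_10, search_neg_11, search_neg_12, search_neg_13, search_neg_14, search_neg_15, search_neg_16, search_neg_17, search_neg_18, search_neg_19, search_neg_20]
theorem inv_search :
    checkSearch F0 ta 11 [[1, 1]] [[1, 1]] [] chain ((List.range 24).map fun y => (1, y)) = true := by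
  decide +kernel

theorem cent_search :
    checkSearch F0 ta 11 [[1, 11 - 1]] [[1, 11 - 1]] [idTbl] chain
      ((List.range 24).map fun y => (1, y)) = true := by
  decide +kernel


end Cfsg.Agent.H50.M22Cert
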