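/-
Checked certificate data for the automorphisms of M22: searches, in pieces.
-/
import Cfsg.Agent.H50.MathieuData.M22Base

set_option autoImplicit false
set_option maxRecDepth 100000
set_option maxHeartbeats 0

namespace Cfsg.Agent.H50.M22Cert

open Cfsg Cfsg.Agent.Golay


theorem search_pos_10 :
    checkSearch F0 ta 11 relP relW (conjList ta 11 [tb]) ((1, top) :: (4, [976337334113520926459379274286713888]) :: rest) starts = true := by
  decide +kernel

theorem search_pos_11 :
    checkSearch F0 ta 11 relP relW (conjList ta 11 [tb]) ((1, top) :: (4, [977540390250939815644387926466840608]) :: rest) starts = true := by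
  decide +kernel

theorem search_pos_12 :
    checkSearch F0 ta 11 relP relW (conjList ta 11 [tb]) ((1, top) :: (4, [970049745595298801648021255815347232]) :: rest) starts = true := by
  decide +kernel

theorem search_pos_13 :
    checkSearch F0 ta 11 relP relW (conjList ta 11 [tb]) ((1, top) :: (4, [959568850014219931286421122410108960]) :: rest) starts = true := by
  decide +kernel

theorem search_pos_14 :
    checkSearch F0 ta 11 relP relW (conjList ta 11 [tb]) ((1, top) :: (4, [963297923475253541333768927145539616]) :: rest) starts = true := by
  decide +kernel

theorem search_pos_15 :
    checkSearch F0 ta 11 relP relW (conjList ta 11 [tb]) ((1, top) :: (4, [978914111229142423207341036016186400]) :: rest) starts = true := by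
  decide +kernel

theorem search_pos_16 :
    checkSearch F0 ta 11 relP relW (conjList ta 11 [tb]) ((1, top) :: (4, [962578147566786137625883998804856864]) :: rest) starts = true := by
  decide +kernel

theorem search_pos_17 :
    checkSearch F0 ta 11 relP relW (conjList ta 11 [tb]) ((1, top) :: (4, [959888111305905642112725163334872096]) :: rest) starts = true := by
  decide +kernel

theorem search_pos_18 :
    checkSearch F0 ta 11 relP relW (conjList ta 11 [tb]) ((1, top) :: (4, [967773163942342224975699762211077152]) :: rest) starts = true := by
  decide +kernel

theorem search_pos_19 :
    checkSearch F0 ta 11 relP relW (conjList ta 11 [tb]) ((1, top) :: (4, [967475635087295815106805822945471520]) :: rest) starts = true := by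
  decide +kernel

theorem search_pos_20 :
    checkSearch F0 ta 11 relP relW (conjList ta 11 [tb]) ((1, top) :: (4, [973825811972672956958598219841380384]) :: rest) starts = true := by
  decide +kernel

end Cfsg.Agent.H50.M22Cert
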