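/-
Checked certificate data for the automorphisms of M22: the outer automorphism count.
-/
import Cfsg.Agent.H50.MathieuData.M22Pos
import Cfsg.Agent.H50.MathieuData.M22Neg

set_option autoImplicit false
set_option maxRecDepth 100000
set_option maxHeartbeats 0

namespace Cfsg.Agent.H50.M22Cert

open Cfsg Cfsg.Agent.Golay

theorem fix_ok :
    (checkFix F0 ta 11 starts && checkFix F0 (tblPow ta 10) 11 starts) = true := by decide +kernel

theorem pos : Cand E0 F0 ta relW [tb] :=
  cand_of_fix_sign chain_ok ta_in base.apow (by intro B hB; rw [List.mem_singleton] at hB; subst hB; exact base.vb)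
    (Bool.and_eq_true_iff.1 fix_ok).1 (by decide) (by decide +kernel) (w := [1, 2, 7, 1, 2, 7, 1, 2, 7]) (by decide) (by decide) search_pos

theorem neg : Cand E0 F0 (tblPow ta 10) relW [imgB] :=
  cand_of_fix_sign chain_ok inv_in ord_inv (by intro B hB; rw [List.mem_singleton] at hB; subst hB; exact validT_of_inStab imgB_in)
    (Bool.and_eq_true_iff.1 fix_ok).2 (by decide) (by decide +kernel) (w := [1, 2, 7, 1, 2, 7, 1, 2, 7]) (by decide) (by decide) search_neg

theorem twist_ok :
    (inM24 te && tblEq (tblMul te ta) (tblMul (tblPow ta 10) te) &&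
      tblEq (tblMul te tb) (tblMul imgB te)) = true := by decide +kernel

theorem card_out : Nat.card (Out (stabGrp E0 F0)) = 2 := by
  have h := twist_ok
  simp only [Bool.and_eq_true] at h
  exact base.out_eq_two (by norm_num) pos neg (validT_of_inStab imgB_in)
    (mem_stabGrp_of_inStab imgB_in) (validT_of_inM24 h.1.1) h.1.2 h.2
    (base.not_inverted (by norm_num) (by norm_num) chain_ok inv_search cent_search)

end Cfsg.Agent.H50.M22Cert
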