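/-
Checked certificate data for the automorphisms of M23: searches, in pieces.
-/
import Cfsg.Agent.H50.MathieuData.M23Base

set_option autoImplicit false
set_option maxRecDepth 100000
set_option maxHeartbeats 0

namespace Cfsg.Agent.H50.M23Cert

open Cfsg Cfsg.Agent.Golay


theorem search_pos_11 :
    checkSearch F0 ta 23 relP relW (conjList ta 23 [tb]) ((0, top) :: (15, [984633705779915692540809443504902656]) :: rest) starts = true := by
  decide +kernel

theorem search_pos_12 :
    checkSearch F0 ta 23 relP relW (conjList ta 23 [tb]) ((0, top) :: (15, [963846075174178774872294564140584480]) :: rest) starts = true := by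
  decide +kernel

theorem search_pos_13 :
    checkSearch F0 ta 23 relP relW (conjList ta 23 [tb]) ((0, top) :: (15, [979622012918613199815529615858997568]) :: rest) starts = true := by
  decide +kernel

theorem search_pos_14 :
    checkSearch F0 ta 23 relP relW (conjList ta 23 [tb]) ((0, top) :: (15, [984818244535754528103549039458486304]) :: rest) starts = true := by
  decide +kernel

theorem search_pos_15 :
    checkSearch F0 ta 23 relP relW (conjList ta 23 [tb]) ((0, top) :: (15, [967206500926321328849974383285456096]) :: rest) starts = true := by
  decide +kernel

theorem search_pos_16 :
    checkSearch F0 ta 23 relP relW (conjList ta 23 [tb]) ((0, top) :: (15, [980665132215654800161673777542419488]) :: rest) starts = true := by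
  decide +kernel

theorem search_pos_17 :
    checkSearch F0 ta 23 relP relW (conjList ta 23 [tb]) ((0, top) :: (15, [981876820897445631710715167614975328]) :: rest) starts = true := by
  decide +kernel

theorem search_pos_18 :
    checkSearch F0 ta 23 relP relW (conjList ta 23 [tb]) ((0, top) :: (15, [961470448653226144165413177897039008]) :: rest) starts = true := by
  decide +kernel

theorem search_pos_19 :
    checkSearch F0 ta 23 relP relW (conjList ta 23 [tb]) ((0, top) :: (15, [968610765359633020917965919869247936]) :: rest) starts = true := by
  decide +kernel

theorem search_pos_20 :
    checkSearch F0 ta 23 relP relW (conjList ta 23 [tb]) ((0, top) :: (15, [960880628454914380237220734500702592]) :: rest) starts = true := by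
  decide +kernel

theorem search_pos_21 :
    checkSearch F0 ta 23 relP relW (conjList ta 23 [tb]) ((0, top) :: (15, [970407063366988022190607468458188928]) :: rest) starts = true := by
  decide +kernel

end Cfsg.Agent.H50.M23Cert
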