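/-
Checked certificate data for the automorphisms of M23: searches, in pieces.
-/
import Cfsg.Agent.H50.MathieuData.M23PosPart

set_option autoImplicit false
set_option maxRecDepth 100000
set_option maxHeartbeats 0

namespace Cfsg.Agent.H50.M23Cert

open Cfsg Cfsg.Agent.Golay


theorem search_pos_0 :
    checkSearch F0 ta 23 relP relW (conjList ta 23 [tb]) ((0, top) :: (15, [965387447461304971082828309110017376]) :: rest) starts = true := by
  decide +kernel

theorem search_pos_1 :
    checkSearch F0 ta 23 relP relW (conjList ta 23 [tb]) ((0, top) :: (15, [968855657092309264561067836352027040]) :: rest) starts = true := by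
  decide +kernel

theorem search_pos_2 :
    checkSearch F0 ta 23 relP relW (conjList ta 23 [tb]) ((0, top) :: (15, [982934468548092458287182334657186976]) :: rest) starts = true := by
  decide +kernel

theorem search_pos_3 :
    checkSearch F0 ta 23 relP relW (conjList ta 23 [tb]) ((0, top) :: (15, [969725186574902938283253922119950944]) :: rest) starts = true := by
  decide +kernel

theorem search_pos_4 :
    checkSearch F0 ta 23 relP relW (conjList ta 23 [tb]) ((0, top) :: (15, [974472469710457280141070950543466912]) :: rest) starts = true := by
  decide +kernel

theorem search_pos_5 :
    checkSearch F0 ta 23 relP relW (conjList ta 23 [tb]) ((0, top) :: (15, [968693058774803034985138944274247712]) :: rest) starts = true := by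
  decide +kernel

theorem search_pos_6 :
    checkSearch F0 ta 23 relP relW (conjList ta 23 [tb]) ((0, top) :: (15, [971790087460136374180986765353358368]) :: rest) starts = true := by
  decide +kernel

theorem search_pos_7 :
    checkSearch F0 ta 23 relP relW (conjList ta 23 [tb]) ((0, top) :: (15, [959345937226485016505455832355650752]) :: rest) starts = true := by
  decide +kernel

theorem search_pos_8 :
    checkSearch F0 ta 23 relP relW (conjList ta 23 [tb]) ((0, top) :: (15, [977658257833574718430112332380392768]) :: rest) starts = true := by
  decide +kernel

theorem search_pos_9 :
    checkSearch F0 ta 23 relP relW (conjList ta 23 [tb]) ((0, top) :: (15, [965220172656232698846298788108373472]) :: rest) starts = true := by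
  decide +kernel

theorem search_pos_10 :
    checkSearch F0 ta 23 relP relW (conjList ta 23 [tb]) ((0, top) :: (15, [973989999923626635095984245813919008]) :: rest) starts = true := by
  decide +kernel

theorem search_pos :
    checkSearch F0 ta 23 relP relW (conjList ta 23 [tb]) chain starts = true := by
  refine checkSearch_split (by simp [second]) fun u hu => ?_
  simp only [second, List.mem_cons, List.not_mem_nil, or_false] at hu
  rcases hu with rfl | rfl | rfl | rfl | rfl | rfl | rfl | rfl | rfl | rfl | rfl | rfl | rfl | rfl | rfl | rfl | rfl | rfl | rfl | rfl | rfl | rfl
  exacts [search_pos_0, search_pos_1, search_pos_2, search_pos_3, search_pos_4, search_pos_5, search_pos_6, search_pos_7, search_pos_8, search_pos_9, search_pos_10, search_pos_11, search_pos_12, search_pos_13, search_pos_14, search_pos_15, search_pos_16, search_pos_17, search_pos_18, search_pos_19, search_pos_20, search_pos_21]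

end Cfsg.Agent.H50.M23Cert
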