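/-
Checked certificate data for the automorphisms of M23: the outer automorphism count.
-/
import Cfsg.Agent.H50.MathieuData.M23Pos
import Cfsg.Agent.H50.MathieuData.M23Neg

set_option autoImplicit false
set_option maxRecDepth 100000
set_option maxHeartbeats 0

namespace Cfsg.Agent.H50.M23Cert

open Cfsg Cfsg.Agent.Golay

theorem fix_ok :
    (checkFix F0 ta 23 starts && checkFix F0 (tblPow ta 22) 23 starts) = true := by decide +kernel

theorem pos : Cand E0 F0 ta relW [tb] :=
  cand_of_fix chain_ok ta_in base.apow (by intro B hB; rw [List.mem_singleton] at hB; subst hB; exact base.vb)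
    (Bool.and_eq_true_iff.1 fix_ok).1 (by decide +kernel) search_pos

theorem neg : Cand E0 F0 (tblPow ta 22) relW [] :=
  cand_of_fix chain_ok inv_in ord_inv (by simp)
    (Bool.and_eq_true_iff.1 fix_ok).2 (by decide +kernel) search_neg

theorem card_out : Nat.card (Out (stabGrp E0 F0)) = 1 :=
  base.out_eq_one (by norm_num) pos neg

end Cfsg.Agent.H50.M23Cert
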